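import Groth.Agent.S6328
import Groth.Agent.S6327
import Groth.Agent.AffLim.Presentation

/-!
`ModuleCat A` is finitely accessible, with the finitely presented modules as the finitely presentable objects,
and functors preserving filtered colimits are the left Kan extensions of their restrictions to those.
-/

set_option autoImplicit false
set_option backward.isDefEq.respectTransparency false
set_option linter.style.haveILetI false

universe u v' u'

open CategoryTheory CategoryTheory.Limits Opposite

namespace FunMorLib

variable (A : Type u) [CommRing A]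

/-- The finitely presented modules. -/
abbrev fpObj : ObjectProperty (ModuleCat.{u} A) := fun M => Module.FinitePresentation A M

variable {A}

theorem isFinitelyPresentable_of_fp (M : ModuleCat.{u} A) [Module.FinitePresentation A M] : IsFinitelyPresentable.{u} M := by
  rw [isFinitelyPresentable_iff_preservesFilteredColimitsOfSize]
  refine ⟨fun J _ _ => ⟨fun {K} => ?_⟩⟩
  obtain ⟨α, _, hα, hne, F, _⟩ := IsFiltered.exists_directed J
  haveI := hα
  haveI := hne
  haveI : IsIso (colimit.post (F ⋙ K) (coyoneda.obj (op M))) :=
    (isIso_iff_bijective _).2 (Groth.Agent.AffLim.bijective_post_of_finitePresentation M (F ⋙ K))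
  haveI := preservesColimit_of_isIso_post (F := F ⋙ K) (G := coyoneda.obj (op M))
  refine preservesColimit_of_preserves_colimit_cocone (colimit.isColimit K) ?_
  exact (Functor.Final.isColimitWhiskerEquiv F _).toFun
    (isColimitOfPreserves (coyoneda.obj (op M)) ((Functor.Final.isColimitWhiskerEquiv F _).symm (colimit.isColimit K)))

variable (A)

theorem fpObj_eq : fpObj A = ObjectProperty.isFinitelyPresentable.{u} (ModuleCat.{u} A) := by
  ext M
  refine ⟨fun h => @isFinitelyPresentable_of_fp A _ M h, fun h => ?_⟩
  haveI : IsFinitelyPresentable.{u} M := h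
  haveI := (isFinitelyPresentable_iff_preservesFilteredColimitsOfSize (X := M)).1 inferInstance
  refine Groth.Agent.S6327.result A M fun J _ _ F => ?_
  exact (isIso_iff_bijective _).1 inferInstance

instance : ObjectProperty.EssentiallySmall.{u} (fpObj A) where
  exists_small_le' := by
    refine ⟨ObjectProperty.ofObj fun p : Σ n : ℕ, Finset (Fin n → A) =>
      ModuleCat.of A ((Fin p.1 → A) ⧸ Submodule.span A (p.2 : Set (Fin p.1 → A))), inferInstance, fun M hM => ?_⟩
    haveI : Module.FinitePresentation A M := hM
    obtain ⟨n, K, e, s, hs⟩ := Module.FinitePresentation.exists_fin A M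
    exact ⟨_, ⟨⟨n, s⟩⟩, ⟨(e.trans (Submodule.quotEquivOfEq _ _ hs.symm)).toModuleIso⟩⟩

attribute [local instance] Cardinal.fact_isRegular_aleph0

theorem isCardinalFilteredGenerator : (fpObj A).IsCardinalFilteredGenerator (Cardinal.aleph0.{u}) where
  le_isCardinalPresentable M hM := by
    rw [← ObjectProperty.isFinitelyPresentable_eq_isCardinalPresentable, ← fpObj_eq]
    exact hM
  exists_colimitsOfShape M := by
    classical
    obtain ⟨ι, _, _, _, _, G, _, _, f, _, hG, ⟨e⟩⟩ := Groth.Agent.S6328.result A M
    haveI : IsDirectedOrder ι := ⟨fun a b => directed_of (· ≤ ·) a b⟩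
    refine ⟨ι, inferInstance, (isCardinalFiltered_aleph0_iff _).2 inferInstance, ⟨?_⟩⟩
    exact
      { diag := ModuleCat.directLimitDiagram G f
        ι := ((ModuleCat.directLimitCocone G f).extend e.toModuleIso.hom).ι
        isColimit := IsColimit.ofIsoColimit (ModuleCat.directLimitIsColimit G f) (Cocone.ext e.toModuleIso fun j => rfl)
        prop_diag_obj := hG }

instance : IsFinitelyAccessibleCategory.{u} (ModuleCat.{u} A) :=
  haveI := (isCardinalFilteredGenerator A).hasCardinalFilteredGenerator
  { toHasCardinalFilteredGenerator := inferInstance }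

instance (M : ModuleCat.{u} A) : IsFiltered (CostructuredArrow (fpObj A).ι M) := by
  rw [fpObj_eq]
  infer_instance

instance : (fpObj A).ι.IsDense := by
  rw [fpObj_eq]
  infer_instance

instance (M : ModuleCat.{u} A) : EssentiallySmall.{u} (CostructuredArrow (fpObj A).ι M) :=
  inferInstance

variable {A} {B : Type u'} [Category.{v'} B]

/-- Filtered colimits indexed by the modules over a given module exist. -/
theorem hasColimitsOfShape [HasFilteredColimitsOfSize.{u, u} B] (M : ModuleCat.{u} A) :
    HasColimitsOfShape (CostructuredArrow (fpObj A).ι M) B :=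
  haveI := IsFiltered.of_equivalence (equivSmallModel.{u} (CostructuredArrow (fpObj A).ι M))
  hasColimitsOfShape_of_equivalence (equivSmallModel.{u} (CostructuredArrow (fpObj A).ι M)).symm

instance hasLan [HasFilteredColimitsOfSize.{u, u} B] (F : (fpObj A).FullSubcategory ⥤ B) :
    (fpObj A).ι.HasPointwiseLeftKanExtension F := fun M =>
  haveI := hasColimitsOfShape (B := B) M
  inferInstance

/-- A functor preserving filtered colimits is the pointwise left Kan extension of its restriction. -/
noncomputable def isPointwiseLan (G : ModuleCat.{u} A ⥤ B) [PreservesFilteredColimitsOfSize.{u, u} G] :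
    (Functor.LeftExtension.mk G (𝟙 ((fpObj A).ι ⋙ G))).IsPointwiseLeftKanExtension := fun M =>
  haveI := IsFiltered.of_equivalence (equivSmallModel.{u} (CostructuredArrow (fpObj A).ι M))
  haveI : PreservesColimitsOfShape (CostructuredArrow (fpObj A).ι M) G :=
    preservesColimitsOfShape_of_equiv (equivSmallModel.{u} (CostructuredArrow (fpObj A).ι M)).symm G
  IsColimit.ofIsoColimit (isColimitOfPreserves G ((fpObj A).ι.denseAt M))
    (Cocone.ext (Iso.refl _) fun g => by
      show G.map (𝟙 g.left.obj ≫ g.hom) ≫ 𝟙 (G.obj M) = 𝟙 (G.obj g.left.obj) ≫ G.map g.hom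
      rw [Category.id_comp, Category.id_comp, Category.comp_id])

/-- A pointwise left Kan extension from the finitely presented modules preserves filtered colimits. -/
theorem preservesFilteredColimits_of_isPointwise {F : (fpObj A).FullSubcategory ⥤ B}
    (E : Functor.LeftExtension (fpObj A).ι F) (hE : E.IsPointwiseLeftKanExtension) :
    PreservesFilteredColimitsOfSize.{u, u} E.right := by
  refine ⟨fun J _ _ => ⟨fun {K} => ⟨fun {c} hc => ⟨?_⟩⟩⟩⟩
  haveI : ∀ g : CostructuredArrow (fpObj A).ι c.pt, IsFinitelyPresentable.{u} ((fpObj A).ι.obj g.left) := fun g =>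
    @isFinitelyPresentable_of_fp A _ g.left.obj g.left.property
  have hlift : ∀ g : CostructuredArrow (fpObj A).ι c.pt, ∃ (j : J) (h : (fpObj A).ι.obj g.left ⟶ K.obj j), h ≫ c.ι.app j = g.hom :=
    fun g => IsFinitelyPresentable.exists_hom_of_isColimit hc g.hom
  choose j h hh using hlift
  have key : ∀ (s : Cocone (K ⋙ E.right)) (g : CostructuredArrow (fpObj A).ι c.pt) (k : J) (l : (fpObj A).ι.obj g.left ⟶ K.obj k),
      l ≫ c.ι.app k = g.hom →
      E.hom.app g.left ≫ E.right.map (h g) ≫ s.ι.app (j g) = E.hom.app g.left ≫ E.right.map l ≫ s.ι.app k := by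
    intro s g k l hl
    obtain ⟨m, u, v, huv⟩ := IsFinitelyPresentable.exists_eq_of_isColimit hc (h g) l ((hh g).trans hl.symm)
    rw [← s.w u, ← s.w v, Functor.comp_map, Functor.comp_map, ← E.right.map_comp_assoc, ← E.right.map_comp_assoc, huv]
  let co : ∀ s : Cocone (K ⋙ E.right), Cocone (CostructuredArrow.proj (fpObj A).ι c.pt ⋙ F) := fun s =>
    { pt := s.pt
      ι :=
        { app := fun g => E.hom.app g.left ≫ E.right.map (h g) ≫ s.ι.app (j g)
          naturality := fun g g' φ => by
            show F.map φ.left ≫ E.hom.app g'.left ≫ E.right.map (h g') ≫ s.ι.app (j g') = _ ≫ 𝟙 _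
            rw [Category.comp_id]
            refine Eq.trans ?_ (key s g (j g') (φ.left.hom ≫ h g') ?_).symm
            · rw [E.hom.naturality_assoc, E.right.map_comp, Category.assoc]
              rfl
            · rw [Category.assoc, hh]
              exact CostructuredArrow.w φ } }
  refine { desc := fun s => (hE c.pt).desc (co s), fac := fun s k => ?_, uniq := fun s m hm => ?_ }
  · refine (hE (K.obj k)).hom_ext fun g => ?_
    let g' : CostructuredArrow (fpObj A).ι c.pt := CostructuredArrow.mk (Y := g.left) (g.hom ≫ c.ι.app k)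
    have h1 : (E.hom.app g.left ≫ E.right.map (g.hom ≫ c.ι.app k)) ≫ (hE c.pt).desc (co s) =
        E.hom.app g.left ≫ E.right.map (h g') ≫ s.ι.app (j g') := (hE c.pt).fac (co s) g'
    show (E.hom.app g.left ≫ E.right.map g.hom) ≫ E.right.map (c.ι.app k) ≫ _ = (E.hom.app g.left ≫ E.right.map g.hom) ≫ _
    rw [E.right.map_comp] at h1
    simp only [Category.assoc] at h1 ⊢
    rw [h1]
    exact key s g' k g.hom rfl
  · refine (hE c.pt).hom_ext fun g => ?_
    rw [(hE c.pt).fac (co s) g]
    show (E.hom.app g.left ≫ E.right.map g.hom) ≫ m = E.hom.app g.left ≫ E.right.map (h g) ≫ s.ι.app (j g)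
    rw [← hm (j g), ← hh g, E.right.map_comp]
    simp

end FunMorLib
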