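import Groth.Agent.FunMorLib.RightExt

/-!
The right exact functor on finitely presented modules attached to an object with an action of the ring.
-/

set_option autoImplicit false
set_option backward.isDefEq.respectTransparency false
set_option linter.style.haveILetI false

universe u v' u'

open CategoryTheory CategoryTheory.Limits

namespace FunMorLib

variable {A : Type u} [CommRing A] {B : Type u'} [Category.{v'} B] [Preadditive B]

/-- The `A`-module of maps out of an object with an action of `A`. -/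
def HomK {K : B} (_κ : A →+* End K) (Z : B) := K ⟶ Z

variable {K : B} (κ : A →+* End K)

instance (Z : B) : AddCommGroup (HomK κ Z) := inferInstanceAs (AddCommGroup (K ⟶ Z))

instance (Z : B) : Module A (HomK κ Z) where
  smul a h := (κ a : K ⟶ K) ≫ h
  one_smul h := by show (κ 1 : K ⟶ K) ≫ h = h; rw [map_one]; exact Category.id_comp h
  mul_smul a b h := by
    show (κ (a * b) : K ⟶ K) ≫ h = κ a ≫ κ b ≫ h
    rw [mul_comm, map_mul, End.mul_def, Category.assoc]
  smul_zero a := comp_zero
  smul_add a h h' := Preadditive.comp_add _ _ _ _ _ _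
  add_smul a b h := by show (κ (a + b) : K ⟶ K) ≫ h = _; rw [map_add]; exact Preadditive.add_comp _ _ _ _ _ _
  zero_smul h := by show (κ 0 : K ⟶ K) ≫ h = 0; rw [map_zero]; exact zero_comp

theorem smul_def (Z : B) (a : A) (h : HomK κ Z) : a • h = ((κ a : K ⟶ K) ≫ h : K ⟶ Z) := rfl

/-- Composition with a map. -/
def post {X Z : B} (g : X ⟶ Z) : HomK κ X →ₗ[A] HomK κ Z where
  toFun h := (show K ⟶ X from h) ≫ g
  map_add' h h' := Preadditive.add_comp _ _ _ _ _ _
  map_smul' a h := Category.assoc _ _ _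

theorem exists_corep [HasFiniteBiproducts B] [HasCokernels B] (M : (fpProp A).FullSubcategory) :
    ∃ (Q : B) (t : M.obj →ₗ[A] HomK κ Q), ∀ (Z : B) (l : M.obj →ₗ[A] HomK κ Z), ∃! g : Q ⟶ Z, post κ g ∘ₗ t = l := by
  classical
  haveI : Module.FinitePresentation A M.obj := M.property
  obtain ⟨n, R, e, s, hs⟩ := Module.FinitePresentation.exists_fin A M.obj
  let N : B := ⨁ fun _ : Fin n => K
  let u : (Fin n → A) →ₗ[A] HomK κ N :=
    Fintype.linearCombination A fun i => (biproduct.ι (fun _ : Fin n => K) i : HomK κ N)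
  let d : (⨁ fun _ : ↥s => K) ⟶ N := biproduct.desc fun v => (show K ⟶ N from u v.1)
  let π : N ⟶ cokernel d := cokernel.π d
  have hR : R ≤ LinearMap.ker (post κ π ∘ₗ u) := hs ▸ Submodule.span_le.2 fun v hv => by
    show (show K ⟶ N from u v) ≫ π = 0
    rw [show (show K ⟶ N from u v) = biproduct.ι (fun _ : ↥s => K) ⟨v, hv⟩ ≫ d from (biproduct.ι_desc (fun w : ↥s => (show K ⟶ N from u w.1)) ⟨v, hv⟩).symm,
      Category.assoc, cokernel.condition, comp_zero]
  refine ⟨cokernel d, R.liftQ (post κ π ∘ₗ u) hR ∘ₗ e.toLinearMap, fun Z l => ?_⟩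
  let l' : (Fin n → A) →ₗ[A] HomK κ Z := l ∘ₗ e.symm.toLinearMap ∘ₗ R.mkQ
  let g₀ : N ⟶ Z := biproduct.desc fun i => (show K ⟶ Z from l' (Pi.single i 1))
  have hg₀ : post κ g₀ ∘ₗ u = l' := (Pi.basisFun A (Fin n)).ext fun i => by
    rw [Pi.basisFun_apply, LinearMap.comp_apply]
    show (show K ⟶ N from u (Pi.single i 1)) ≫ g₀ = _
    rw [show u (Pi.single i 1) = biproduct.ι (fun _ : Fin n => K) i by
      rw [Fintype.linearCombination_apply_single, one_smul]]
    exact biproduct.ι_desc _ i
  have hd : d ≫ g₀ = 0 := biproduct.hom_ext' _ _ fun v => by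
    rw [comp_zero, ← Category.assoc, biproduct.ι_desc]
    refine (congrArg (fun q => q v.1) hg₀).trans ?_
    show l (e.symm (R.mkQ v.1)) = 0
    rw [Submodule.mkQ_apply, (Submodule.Quotient.mk_eq_zero R).2 (hs ▸ Submodule.subset_span v.2 : v.1 ∈ R), map_zero, map_zero]
  refine ⟨cokernel.desc d g₀ hd, LinearMap.ext fun m => ?_, fun g hg => ?_⟩
  · obtain ⟨x, hx⟩ := Submodule.Quotient.mk_surjective R (e m)
    show ((show K ⟶ cokernel d from R.liftQ (post κ π ∘ₗ u) hR (e m))) ≫ _ = l m
    rw [← hx, Submodule.liftQ_apply]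
    show ((show K ⟶ N from u x) ≫ π) ≫ _ = _
    rw [Category.assoc, cokernel.π_desc]
    refine (congrArg (fun q => q x) hg₀).trans ?_
    show l (e.symm (R.mkQ x)) = l m
    rw [Submodule.mkQ_apply, hx, LinearEquiv.symm_apply_apply]
  · rw [← cancel_epi (cokernel.π d), cokernel.π_desc]
    refine biproduct.hom_ext' _ _ fun i => ?_
    rw [biproduct.ι_desc]
    show _ = l (e.symm (R.mkQ (Pi.single i 1)))
    rw [← hg]
    show _ = (show K ⟶ cokernel d from R.liftQ (post κ π ∘ₗ u) hR (e (e.symm (R.mkQ (Pi.single i 1))))) ≫ g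
    rw [LinearEquiv.apply_symm_apply, Submodule.mkQ_apply, Submodule.liftQ_apply]
    show _ = ((show K ⟶ N from u (Pi.single i 1)) ≫ π) ≫ g
    rw [show u (Pi.single i 1) = biproduct.ι (fun _ : Fin n => K) i by
      rw [Fintype.linearCombination_apply_single, one_smul], Category.assoc]

variable [HasFiniteBiproducts B] [HasCokernels B]

/-- The corepresenting object. -/
noncomputable def cObj (M : (fpProp A).FullSubcategory) : B := (exists_corep κ M).choose

/-- The universal linear map. -/
noncomputable def cUnit (M : (fpProp A).FullSubcategory) : M.obj →ₗ[A] HomK κ (cObj κ M) :=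
  (exists_corep κ M).choose_spec.choose

theorem cUniv (M : (fpProp A).FullSubcategory) {Z : B} (l : M.obj →ₗ[A] HomK κ Z) :
    ∃! g : cObj κ M ⟶ Z, post κ g ∘ₗ cUnit κ M = l :=
  (exists_corep κ M).choose_spec.choose_spec Z l

/-- The map induced by a linear map. -/
noncomputable def cDesc {M : (fpProp A).FullSubcategory} {Z : B} (l : M.obj →ₗ[A] HomK κ Z) : cObj κ M ⟶ Z :=
  (cUniv κ M l).choose

theorem cDesc_unit {M : (fpProp A).FullSubcategory} {Z : B} (l : M.obj →ₗ[A] HomK κ Z) (m : M.obj) :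
    (show K ⟶ cObj κ M from cUnit κ M m) ≫ cDesc κ l = l m :=
  congrArg (fun q => q m) (cUniv κ M l).choose_spec.1

theorem cExt {M : (fpProp A).FullSubcategory} {Z : B} {g g' : cObj κ M ⟶ Z}
    (h : ∀ m, (show K ⟶ cObj κ M from cUnit κ M m) ≫ g = (show K ⟶ cObj κ M from cUnit κ M m) ≫ g') : g = g' :=
  (cUniv κ M (post κ g ∘ₗ cUnit κ M)).unique rfl (LinearMap.ext fun m => (h m).symm)

/-- The functor. -/
noncomputable def cFun : (fpProp A).FullSubcategory ⥤ B where
  obj := cObj κ
  map {M N} f := cDesc κ (cUnit κ N ∘ₗ f.hom.hom)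
  map_id M := cExt κ fun m => by
    rw [cDesc_unit, Category.comp_id]
    rfl
  map_comp {L M N} f g := cExt κ fun m => by
    rw [cDesc_unit, ← Category.assoc, cDesc_unit]
    exact (cDesc_unit κ (cUnit κ N ∘ₗ g.hom.hom) (f.hom m)).symm

theorem cFun_map_unit {M N : (fpProp A).FullSubcategory} (f : M ⟶ N) (m : M.obj) :
    (show K ⟶ cObj κ M from cUnit κ M m) ≫ (cFun κ).map f = cUnit κ N (f.hom m) :=
  cDesc_unit κ _ m

instance : (cFun κ).Additive where
  map_add {M N f g} := cExt κ fun m => by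
    rw [cFun_map_unit, Preadditive.comp_add, cFun_map_unit, cFun_map_unit]
    exact (cUnit κ N).map_add (f.hom m) (g.hom m)

instance : HasZeroObject (fpProp A).FullSubcategory := by
  let Z : (fpProp A).FullSubcategory := ⟨ModuleCat.of A PUnit.{u + 1}, inferInstanceAs (Module.FinitePresentation A PUnit.{u + 1})⟩
  refine ⟨⟨Z, (IsZero.iff_id_eq_zero Z).2 ?_⟩⟩
  apply ObjectProperty.hom_ext
  apply ModuleCat.hom_ext
  exact LinearMap.ext fun x => Subsingleton.elim (α := PUnit.{u + 1}) _ _

section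

variable {P N : (fpProp A).FullSubcategory} (p : P ⟶ N)

/-- The cokernel in finitely presented modules. -/
def cokObj : (fpProp A).FullSubcategory :=
  ⟨ModuleCat.of A (N.obj ⧸ LinearMap.range p.hom.hom), by
    haveI : Module.FinitePresentation A N.obj := N.property
    haveI : Module.FinitePresentation A P.obj := P.property
    exact Module.finitePresentation_of_surjective _ (Submodule.mkQ_surjective _) (by
      rw [Submodule.ker_mkQ, LinearMap.range_eq_map]
      exact Module.Finite.fg_top.map _)⟩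

/-- The projection to the cokernel. -/
def cokπ : N ⟶ cokObj p := ObjectProperty.homMk (ModuleCat.ofHom (LinearMap.range p.hom.hom).mkQ)

theorem cokπ_zero : p ≫ cokπ p = 0 := by
  apply ObjectProperty.hom_ext
  apply ModuleCat.hom_ext
  exact LinearMap.ext fun x => (Submodule.Quotient.mk_eq_zero _).2 ⟨x, rfl⟩

/-- The cokernel property. -/
noncomputable def cokIsColimit : IsColimit (CokernelCofork.ofπ (cokπ p) (cokπ_zero p)) :=
  CokernelCofork.IsColimit.ofπ _ _
    (fun {W} k hk => ObjectProperty.homMk (ModuleCat.ofHom ((LinearMap.range p.hom.hom).liftQ k.hom.hom (by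
      rintro _ ⟨x, rfl⟩
      exact congrArg (fun q : P ⟶ W => q.hom.hom x) hk))))
    (fun {W} k hk => by
      apply ObjectProperty.hom_ext
      apply ModuleCat.hom_ext
      exact LinearMap.ext fun x => rfl)
    fun {W} k hk m hm => by
      apply ObjectProperty.hom_ext
      apply ModuleCat.hom_ext
      refine LinearMap.ext fun x => ?_
      obtain ⟨y, rfl⟩ := Submodule.Quotient.mk_surjective _ x
      exact congrArg (fun q : N ⟶ W => q.hom.hom y) hm

theorem preservesCokernel : PreservesColimit (parallelPair p 0) (cFun κ) := by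
  refine preservesColimit_of_preserves_colimit_cocone (cokIsColimit p)
    ((CokernelCofork.isColimitMapCoconeEquiv _ (cFun κ)).symm ?_)
  haveI : Epi ((cFun κ).map (cokπ p)) := ⟨fun {Z} g g' h => cExt κ fun m => by
      obtain ⟨y, rfl⟩ := Submodule.Quotient.mk_surjective _ m
      have e : (show K ⟶ cObj κ N from cUnit κ N y) ≫ (cFun κ).map (cokπ p) = cUnit κ (cokObj p) ((cokπ p).hom y) :=
        cFun_map_unit κ (cokπ p) y
      exact ((congrArg (· ≫ g) e).symm.trans ((Category.assoc _ _ _).trans ((congrArg ((show K ⟶ cObj κ N from cUnit κ N y) ≫ ·) h).trans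
        ((Category.assoc _ _ _).symm.trans (congrArg (· ≫ g') e)))))⟩
  haveI : Epi ((cFun κ).map (Cofork.π (CokernelCofork.ofπ (cokπ p) (cokπ_zero p)))) := ‹_›
  have hw : (cFun κ).map p ≫ (cFun κ).map (Cofork.π (CokernelCofork.ofπ (cokπ p) (cokπ_zero p))) = 0 := by
    rw [← Functor.map_comp]
    exact (congrArg (cFun κ).map (cokπ_zero p)).trans ((cFun κ).map_zero _ _)
  refine CokernelCofork.IsColimit.ofπ' ((cFun κ).map (Cofork.π (CokernelCofork.ofπ (cokπ p) (cokπ_zero p)))) hw
    fun {Z} g hg => ?_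
  have hl : LinearMap.range p.hom.hom ≤ LinearMap.ker (post κ g ∘ₗ cUnit κ N) := by
    rintro _ ⟨x, rfl⟩
    show (show K ⟶ cObj κ N from cUnit κ N (p.hom x)) ≫ g = 0
    rw [← cFun_map_unit κ p x, Category.assoc]
    exact (congrArg (fun q => (show K ⟶ cObj κ P from cUnit κ P x) ≫ q) hg).trans comp_zero
  refine ⟨cDesc κ (M := cokObj p) ((LinearMap.range p.hom.hom).liftQ _ hl), cExt κ fun m => ?_⟩
  show (show K ⟶ cObj κ N from cUnit κ N m) ≫ (cFun κ).map (cokπ p) ≫ _ = _
  rw [← Category.assoc, cFun_map_unit]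
  exact cDesc_unit κ _ _

end

theorem cFun_preservesFiniteColimits : PreservesFiniteColimits (cFun κ) := by
  haveI : HasCokernels (fpProp A).FullSubcategory := ⟨fun {P N} p => ⟨⟨⟨_, cokIsColimit p⟩⟩⟩⟩
  haveI : HasCoequalizers (fpProp A).FullSubcategory := Preadditive.hasCoequalizers_of_hasCokernels
  haveI : HasFiniteCoproducts (fpProp A).FullSubcategory := hasFiniteCoproducts_of_has_binary_and_initial
  haveI : ∀ {X Y} (f : X ⟶ Y), PreservesColimit (parallelPair f 0) (cFun κ) := fun f => preservesCokernel κ f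
  exact (cFun κ).preservesFiniteColimits_of_preservesCokernels

/-- The value at the ring. -/
theorem cFun_value :
    ∃ e : cObj κ (⟨ModuleCat.of A A, inferInstanceAs (Module.FinitePresentation A A)⟩ : (fpProp A).FullSubcategory) ≅ K,
      ∀ a : A, (cFun κ).map (ObjectProperty.homMk (ModuleCat.ofHom (LinearMap.lsmul A A a)) :
          (⟨ModuleCat.of A A, inferInstanceAs (Module.FinitePresentation A A)⟩ : (fpProp A).FullSubcategory) ⟶
            (⟨ModuleCat.of A A, inferInstanceAs (Module.FinitePresentation A A)⟩ : (fpProp A).FullSubcategory)) ≫ e.hom =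
        e.hom ≫ κ a := by
  let M : (fpProp A).FullSubcategory := ⟨ModuleCat.of A A, inferInstanceAs (Module.FinitePresentation A A)⟩
  let l : M.obj →ₗ[A] HomK κ K := LinearMap.toSpanSingleton A (HomK κ K) (𝟙 K : K ⟶ K)
  have hl : ∀ a : A, l a = (κ a : K ⟶ K) := fun a => Category.comp_id _
  have hu : ∀ a : A, (show K ⟶ cObj κ M from cUnit κ M a) = κ a ≫ cUnit κ M (1 : A) := fun a => by
    show cUnit κ M a = a • cUnit κ M (1 : A)
    rw [← map_smul]
    exact congrArg (cUnit κ M) (mul_one a).symm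
  let e : cObj κ M ≅ K :=
    { hom := cDesc κ l
      inv := cUnit κ M (1 : A)
      hom_inv_id := cExt κ fun a => by
        rw [← Category.assoc, cDesc_unit, hl, Category.comp_id, hu]
      inv_hom_id := by
        rw [cDesc_unit, hl, map_one]
        rfl }
  refine ⟨e, fun a => cExt κ fun b => ?_⟩
  show (show K ⟶ cObj κ M from cUnit κ M b) ≫ _ ≫ cDesc κ l = (show K ⟶ cObj κ M from cUnit κ M b) ≫ cDesc κ l ≫ κ a
  rw [← Category.assoc, cFun_map_unit, cDesc_unit, ← Category.assoc, cDesc_unit, hl, hl]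
  show (κ (a * b) : K ⟶ K) = (κ b : K ⟶ K) ≫ κ a
  rw [map_mul]
  rfl

end FunMorLib
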