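import Groth.Agent.FunMorLib.RightExt
import Groth.Agent.FunMorLib.Accessible
import Groth.Agent.CompleteSurjLib.Coherent
import Groth.Agent.S6367

/-!
Extensions to all modules of left exact functors on finitely presented modules over a coherent ring are left exact.
-/

set_option autoImplicit false
set_option backward.isDefEq.respectTransparency false
set_option linter.style.haveILetI false
set_option maxHeartbeats 800000

universe u v' u'

open CategoryTheory CategoryTheory.Limits

namespace FunMorLib

variable {A : Type u} [CommRing A]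

theorem coh_pi (hcoh : ∀ I : Ideal A, I.FG → Module.FinitePresentation A I) :
    ∀ (n : ℕ) (P : Submodule A (Fin n → A)), P.FG → Module.FinitePresentation A P := by
  intro n
  induction n with
  | zero =>
    intro P _
    have : P = ⊥ := eq_bot_iff.2 fun x _ => Subsingleton.elim x 0
    subst this
    exact Module.finitePresentation_of_projective A _
  | succ n ih =>
    let f : (Fin n → A) →ₗ[A] (Fin (n + 1) → A) :=
      LinearMap.pi (Fin.cases 0 fun i => LinearMap.proj i)
    let g : (Fin (n + 1) → A) →ₗ[A] A := LinearMap.proj 0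
    refine (Groth.Agent.S6367.result A f g (fun x y h => funext fun i => by simpa [f] using congrFun h i.succ)
      (fun a => ⟨fun _ => a, rfl⟩) ?_ ⟨inferInstance, ih⟩ ⟨inferInstance, fun N hN => hcoh N hN⟩).2
    ext x
    constructor
    · rintro ⟨y, rfl⟩
      simp [f, g]
    · intro hx
      refine ⟨fun i => x i.succ, funext fun i => ?_⟩
      refine Fin.cases ?_ (fun k => ?_) i
      · simpa [f, g] using (LinearMap.mem_ker.1 hx).symm
      · simp [f]

/-- Over a coherent ring, finitely generated submodules of finitely presented modules are finitely presented. -/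
theorem coh_fp (hcoh : ∀ I : Ideal A, I.FG → Module.FinitePresentation A I) (M : Type u) [AddCommGroup M] [Module A M]
    [Module.FinitePresentation A M] (P : Submodule A M) (hP : P.FG) : Module.FinitePresentation A P := by
  obtain ⟨n, K, e, hK⟩ := Module.FinitePresentation.exists_fin A M
  haveI := Groth.Agent.CompleteSurjLib.coh_quot (coh_pi hcoh n) K hK (P.map e.toLinearMap) (hP.map _)
  exact Module.FinitePresentation.of_equiv (e.submoduleMap P).symm

theorem fp_ker (hcoh : ∀ I : Ideal A, I.FG → Module.FinitePresentation A I) {M N : Type u} [AddCommGroup M] [Module A M]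
    [AddCommGroup N] [Module A N] [Module.FinitePresentation A M] [Module.FinitePresentation A N] (f : M →ₗ[A] N) :
    Module.FinitePresentation A (LinearMap.ker f) := by
  haveI := coh_fp hcoh N (LinearMap.range f) (by rw [LinearMap.range_eq_map]; exact Module.Finite.fg_top.map f)
  refine coh_fp hcoh M _ ?_
  rw [← LinearMap.ker_rangeRestrict]
  exact Module.FinitePresentation.fg_ker _ (LinearMap.surjective_rangeRestrict f)

variable {B : Type u'} [Category.{v'} B]

theorem additive_of_preservesFiniteLimits [Preadditive B] [HasZeroObject B] (R : (fpProp A).FullSubcategory ⥤ B)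
    [PreservesFiniteLimits R] : R.Additive := by
  let Z : (fpProp A).FullSubcategory := ⟨ModuleCat.of A PUnit.{u + 1}, inferInstanceAs (Module.FinitePresentation A PUnit.{u + 1})⟩
  haveI : ∀ X, Subsingleton (X ⟶ Z) := fun X => ⟨fun a b => by
    apply ObjectProperty.hom_ext; apply ModuleCat.hom_ext
    exact LinearMap.ext fun x => Subsingleton.elim (α := PUnit.{u + 1}) _ _⟩
  have hZ : IsTerminal Z := IsTerminal.ofUniqueHom (fun X => 0) fun X m => Subsingleton.elim _ _
  haveI : PreservesLimit (Functor.empty.{0} (fpProp A).FullSubcategory) R := inferInstance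
  have hRZ : IsTerminal (R.obj Z) := IsTerminal.isTerminalObj R Z hZ
  have hRZ0 : IsZero (R.obj Z) := IsZero.of_iso (isZero_zero B)
    (hRZ.uniqueUpToIso (IsTerminal.ofUniqueHom (fun _ => 0) fun X m => (isZero_zero B).eq_of_tgt _ _))
  haveI : R.PreservesZeroMorphisms := ⟨fun X Y => by
    rw [show (0 : X ⟶ Y) = (0 : X ⟶ Z) ≫ (0 : Z ⟶ Y) from zero_comp.symm, R.map_comp,
      hRZ0.eq_of_tgt (R.map (0 : X ⟶ Z)) 0, zero_comp]⟩
  haveI : PreservesBinaryBiproducts R := preservesBinaryBiproducts_of_preservesBinaryProducts R
  exact R.additive_of_preservesBinaryBiproducts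

variable [HasFilteredColimitsOfSize.{u, u} B]

/-- Kernels of filtered colimits of morphisms are preserved if they are preserved stagewise. -/
theorem preservesLimit_colimit [Preadditive B] [HasKernels B] (F' : ModuleCat.{u} A ⥤ B) [F'.Additive]
    [PreservesFilteredColimitsOfSize.{u, u} F']
    {J : Type u} [SmallCategory J] [IsFiltered J]
    [PreservesLimitsOfShape WalkingParallelPair (colim : (J ⥤ B) ⥤ B)] {X Y : J ⥤ ModuleCat.{u} A} (φ : X ⟶ Y)
    (hφ : ∀ j, PreservesLimit (parallelPair (φ.app j) 0) F')
    (cX : Cocone X) (hX : IsColimit cX) (cY : Cocone Y) (hY : IsColimit cY) (f : cX.pt ⟶ cY.pt)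
    (hf : ∀ j, φ.app j ≫ cY.ι.app j = cX.ι.app j ≫ f) :
    PreservesLimit (parallelPair f 0) F' := by
  let W : (J ⥤ ModuleCat.{u} A) ⥤ (J ⥤ B) := (Functor.whiskeringRight J _ B).obj F'
  haveI : PreservesLimit (parallelPair φ 0) W := by
    refine ⟨fun {c} hc => ⟨evaluationJointlyReflectsLimits _ fun j => ?_⟩⟩
    haveI := hφ j
    haveI : PreservesLimit (parallelPair φ 0 ⋙ (evaluation J (ModuleCat.{u} A)).obj j) F' :=
      preservesLimit_of_iso_diagram F' (parallelPair.ext (Iso.refl _) (Iso.refl _) (by simp) (by simp) :
        parallelPair (φ.app j) 0 ≅ parallelPair φ 0 ⋙ (evaluation J (ModuleCat.{u} A)).obj j)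
    exact isLimitOfPreserves F' (isLimitOfPreserves ((evaluation J (ModuleCat.{u} A)).obj j) hc)
  haveI : PreservesFiniteLimits (colim : (J ⥤ ModuleCat.{u} A) ⥤ ModuleCat.{u} A) := inferInstance
  haveI : PreservesLimit (parallelPair φ 0 ⋙ W) (colim : (J ⥤ B) ⥤ B) := inferInstance
  haveI : PreservesLimit (parallelPair φ 0) (W ⋙ colim) := inferInstance
  haveI : PreservesLimit (parallelPair φ 0) (colim ⋙ F') :=
    preservesLimit_of_natIso _ (preservesColimitNatIso F').symm
  haveI : PreservesLimit (parallelPair φ 0 ⋙ colim) F' :=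
    preservesLimit_of_preserves_limit_cone (isLimitOfPreserves colim (limit.isLimit (parallelPair φ 0)))
      (isLimitOfPreserves (colim ⋙ F') (limit.isLimit (parallelPair φ 0)))
  refine preservesLimit_of_iso_diagram F' (parallelPair.ext ((colimit.isColimit X).coconePointUniqueUpToIso hX)
    ((colimit.isColimit Y).coconePointUniqueUpToIso hY) ?_ ?_ :
      parallelPair φ 0 ⋙ colim ≅ parallelPair f 0)
  · refine colimit.hom_ext fun j => ?_
    dsimp
    simp [hf]
  · refine colimit.hom_ext fun j => ?_
    dsimp
    simp

variable [Preadditive B] [HasFiniteBiproducts B] [HasKernels B]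
  (hcomm : ∀ (J : Type u) [SmallCategory J] [IsFiltered J], PreservesLimitsOfShape WalkingParallelPair (colim : (J ⥤ B) ⥤ B))
  (hcoh : ∀ I : Ideal A, I.FG → Module.FinitePresentation A I)
  (F' : ModuleCat.{u} A ⥤ B) [PreservesFiniteLimits ((fpProp A).ι ⋙ F')] [F'.Additive]

include hcoh in
/-- Kernels of maps between finitely presented modules are preserved. -/
theorem preservesLimit_fp {M N : ModuleCat.{u} A} [Module.FinitePresentation A M] [Module.FinitePresentation A N]
    (f : M ⟶ N) : PreservesLimit (parallelPair f 0) F' := by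
  let M' : (fpProp A).FullSubcategory := ⟨M, ‹_›⟩
  let N' : (fpProp A).FullSubcategory := ⟨N, ‹_›⟩
  let f' : M' ⟶ N' := ObjectProperty.homMk f
  let K : ModuleCat.{u} A := ModuleCat.of A (LinearMap.ker f.hom)
  let K' : (fpProp A).FullSubcategory := ⟨K, fp_ker hcoh f.hom⟩
  let i : K ⟶ M := ModuleCat.ofHom (LinearMap.ker f.hom).subtype
  have hi : i ≫ f = 0 := by
    ext x
    exact x.2
  have hM : IsLimit (KernelFork.ofι i hi) := ModuleCat.kernelIsLimit f
  let i' : K' ⟶ M' := ObjectProperty.homMk i
  have hw : i' ≫ f' = 0 := ObjectProperty.hom_ext _ hi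
  have h' : IsLimit (KernelFork.ofι i' hw) := by
    refine KernelFork.IsLimit.ofι _ _
      (fun {W} k hk => ObjectProperty.homMk (hM.lift (KernelFork.ofι k.hom
        (show k.hom ≫ f = 0 from congrArg InducedCategory.Hom.hom hk)))) (fun {W} k hk => ?_) fun {W} k hk m hm => ?_
    · exact ObjectProperty.hom_ext _ (hM.fac (KernelFork.ofι k.hom _) WalkingParallelPair.zero)
    · refine ObjectProperty.hom_ext _ (Fork.IsLimit.hom_ext hM ?_)
      exact (congrArg InducedCategory.Hom.hom hm).trans
        (hM.fac (KernelFork.ofι k.hom _) WalkingParallelPair.zero).symm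
  haveI : ((fpProp A).ι ⋙ F').Additive := inferInstance
  exact preservesLimit_of_preserves_limit_cone hM
    ((KernelFork.isLimitMapConeEquiv _ F').symm (KernelFork.mapIsLimit _ h' ((fpProp A).ι ⋙ F')))

variable [PreservesFilteredColimitsOfSize.{u, u} F']

include hcomm hcoh in
/-- Kernels of maps out of finitely presented modules are preserved. -/
theorem preservesLimit_fp_left {M N : ModuleCat.{u} A} [Module.FinitePresentation A M] (f : M ⟶ N) :
    PreservesLimit (parallelPair f 0) F' := by
  classical
  obtain ⟨ι, _, _, _, _, G, _, _, fN, _, hG, ⟨e⟩⟩ := Groth.Agent.S6328.result A N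
  haveI : IsDirectedOrder ι := ⟨fun a b => directed_of (· ≤ ·) a b⟩
  haveI : IsFinitelyPresentable.{u} M := isFinitelyPresentable_of_fp M
  let c := (ModuleCat.directLimitCocone G fN).extend e.toModuleIso.hom
  have hc : IsColimit c := IsColimit.extendIso e.toModuleIso.hom (ModuleCat.directLimitIsColimit G fN)
  obtain ⟨j, g, hg⟩ := IsFinitelyPresentable.exists_hom_of_isColimit hc f
  haveI := IsFiltered.under (C := ι) j
  haveI := IsFiltered.isConnected (Under j)
  let T := Under.forget j
  haveI : T.Final := inferInstance
  let φ : (Functor.const (Under j)).obj M ⟶ T ⋙ ModuleCat.directLimitDiagram G fN :=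
    { app := fun k => g ≫ (ModuleCat.directLimitDiagram G fN).map k.hom
      naturality := fun k l a => by
        refine (Category.id_comp _).trans (Eq.trans ?_ (Category.assoc _ _ _).symm)
        exact congrArg (g ≫ ·) ((congrArg (ModuleCat.directLimitDiagram G fN).map (Subsingleton.elim _ _)).trans
          (Functor.map_comp _ k.hom a.right)) }
  refine preservesLimit_colimit F' φ (fun k => ?_) _ (isColimitConstCocone (Under j) M)
    (c.whisker T) ((Functor.Final.isColimitWhiskerEquiv T c).symm hc) f fun k => ?_
  · haveI := hG k.right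
    exact @preservesLimit_fp A _ B _ _ _ _ _ hcoh F' _ _ M _ ‹_› (hG k.right) _
  · show (g ≫ (ModuleCat.directLimitDiagram G fN).map k.hom) ≫ c.ι.app k.right = 𝟙 M ≫ f
    rw [Category.assoc, c.w, Category.id_comp, hg]

include hcomm hcoh in
/-- The extension of a left exact functor is left exact. -/
theorem preservesFiniteLimits : PreservesFiniteLimits F' := by
  haveI : ∀ {X Y : ModuleCat.{u} A} (f : X ⟶ Y), PreservesLimit (parallelPair f 0) F' := fun {M N} f => by
    classical
    obtain ⟨ι, _, _, _, _, G, _, _, fM, _, hG, ⟨e⟩⟩ := Groth.Agent.S6328.result A M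
    haveI : IsDirectedOrder ι := ⟨fun a b => directed_of (· ≤ ·) a b⟩
    let c := (ModuleCat.directLimitCocone G fM).extend e.toModuleIso.hom
    have hc : IsColimit c := IsColimit.extendIso e.toModuleIso.hom (ModuleCat.directLimitIsColimit G fM)
    haveI := IsFiltered.isConnected ι
    let φ : ModuleCat.directLimitDiagram G fM ⟶ (Functor.const ι).obj N :=
      { app := fun k => c.ι.app k ≫ f
        naturality := fun k l a => by
          refine Eq.trans ?_ (Category.comp_id _).symm
          exact (Category.assoc _ _ _).symm.trans (congrArg (· ≫ f) (c.w a)) }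
    refine preservesLimit_colimit F' φ (fun k => ?_) c hc _ (isColimitConstCocone ι N) f fun k => ?_
    · exact @preservesLimit_fp_left A _ B _ _ _ _ _ hcomm hcoh F' _ _ _ (ModuleCat.of A (G k)) N (hG k) _
    · exact Category.comp_id _
  exact F'.preservesFiniteLimits_of_preservesKernels

end FunMorLib
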