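import Groth.Agent.S6328
import Groth.Agent.S6715

/-!
Extensions to all modules of right exact functors on finitely presented modules are right exact.
-/

set_option backward.isDefEq.respectTransparency false

universe u v' u'

open CategoryTheory CategoryTheory.Limits

namespace FunMorLib

variable (A : Type u) [CommRing A]

/-- The finitely presented modules. -/
abbrev fpProp : ObjectProperty (ModuleCat.{u} A) := fun M => Module.FinitePresentation A M

instance : HasBinaryBiproducts (fpProp A).FullSubcategory where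
  has_binary_biproduct P Q := by
    haveI : Module.FinitePresentation A P.obj := P.property
    haveI : Module.FinitePresentation A Q.obj := Q.property
    let S : (fpProp A).FullSubcategory :=
      ⟨ModuleCat.of A (P.obj × Q.obj), inferInstanceAs (Module.FinitePresentation A (P.obj × Q.obj))⟩
    refine hasBinaryBiproduct_of_total
      ({ pt := S
         fst := ObjectProperty.homMk (ModuleCat.ofHom (LinearMap.fst A P.obj Q.obj))
         snd := ObjectProperty.homMk (ModuleCat.ofHom (LinearMap.snd A P.obj Q.obj))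
         inl := ObjectProperty.homMk (ModuleCat.ofHom (LinearMap.inl A P.obj Q.obj))
         inr := ObjectProperty.homMk (ModuleCat.ofHom (LinearMap.inr A P.obj Q.obj))
         inl_fst := by apply ObjectProperty.hom_ext; apply ModuleCat.hom_ext; ext x; rfl
         inl_snd := by apply ObjectProperty.hom_ext; apply ModuleCat.hom_ext; ext x; rfl
         inr_fst := by apply ObjectProperty.hom_ext; apply ModuleCat.hom_ext; ext x; rfl
         inr_snd := by apply ObjectProperty.hom_ext; apply ModuleCat.hom_ext; ext x; rfl } : BinaryBicone P Q) ?_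
    apply ObjectProperty.hom_ext
    apply ModuleCat.hom_ext
    exact LinearMap.ext fun x => Prod.ext (by show x.1 + 0 = x.1; simp) (by show 0 + x.2 = x.2; simp)

variable {A} {B : Type u'} [Category.{v'} B] [Preadditive B]

theorem additive_of_preservesFiniteColimits (R : (fpProp A).FullSubcategory ⥤ B) [PreservesFiniteColimits R]
    [HasZeroObject B] : R.Additive := by
  let Z : (fpProp A).FullSubcategory := ⟨ModuleCat.of A PUnit.{u + 1}, inferInstanceAs (Module.FinitePresentation A PUnit.{u + 1})⟩
  haveI : ∀ X, Subsingleton (Z ⟶ X) := fun X => ⟨fun a b => by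
    apply ObjectProperty.hom_ext; apply ModuleCat.hom_ext
    exact LinearMap.ext fun x => by
      rw [Subsingleton.elim x 0]
      exact (map_zero a.hom.hom).trans (map_zero b.hom.hom).symm⟩
  haveI : ∀ X, Nonempty (Z ⟶ X) := fun X => ⟨0⟩
  have hZ : IsInitial Z := IsInitial.ofUniqueHom (fun X => 0) fun X m => Subsingleton.elim _ _
  haveI : PreservesColimit (Functor.empty.{0} (fpProp A).FullSubcategory) R := inferInstance
  have hRZ : IsInitial (R.obj Z) := IsInitial.isInitialObj R Z hZ
  have hRZ0 : IsZero (R.obj Z) := IsZero.of_iso (isZero_zero B)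
    (hRZ.uniqueUpToIso (IsInitial.ofUniqueHom (fun _ => 0) fun X m => (isZero_zero B).eq_of_src _ _))
  haveI : R.PreservesZeroMorphisms := ⟨fun X Y => by
    rw [show (0 : X ⟶ Y) = (0 : X ⟶ Z) ≫ (0 : Z ⟶ Y) from zero_comp.symm, R.map_comp,
      hRZ0.eq_of_tgt (R.map (0 : X ⟶ Z)) 0, zero_comp]⟩
  haveI : PreservesBinaryBiproducts R := preservesBinaryBiproducts_of_preservesBinaryCoproducts R
  exact R.additive_of_preservesBinaryBiproducts

variable (F' : ModuleCat.{u} A ⥤ B) [PreservesFiniteColimits ((fpProp A).ι ⋙ F')] [F'.Additive]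

/-- The universal property of the image of a quotient of a finitely presented module. -/
theorem existsUnique_desc {N : ModuleCat.{u} A} [Module.FinitePresentation A N] {P : ModuleCat.{u} A}
    [Module.FinitePresentation A P] (p : P ⟶ N) {Z : B} (g : F'.obj N ⟶ Z) (hg : F'.map p ≫ g = 0) :
    ∃! l : F'.obj (ModuleCat.of A (N ⧸ LinearMap.range p.hom)) ⟶ Z,
      F'.map (ModuleCat.ofHom (LinearMap.range p.hom).mkQ) ≫ l = g := by
  haveI : Module.FinitePresentation A (N ⧸ LinearMap.range p.hom) :=
    Module.finitePresentation_of_surjective _ (Submodule.mkQ_surjective _) (by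
      rw [Submodule.ker_mkQ, LinearMap.range_eq_map]
      exact Module.Finite.fg_top.map _)
  let π : N ⟶ ModuleCat.of A (N ⧸ LinearMap.range p.hom) := ModuleCat.ofHom (LinearMap.range p.hom).mkQ
  have hπ : p ≫ π = 0 := by
    ext x
    exact (Submodule.Quotient.mk_eq_zero _).2 ⟨x, rfl⟩
  let P' : (fpProp A).FullSubcategory := ⟨P, ‹_›⟩
  let N' : (fpProp A).FullSubcategory := ⟨N, ‹_›⟩
  let Q' : (fpProp A).FullSubcategory := ⟨ModuleCat.of A (N ⧸ LinearMap.range p.hom), ‹_›⟩
  let p' : P' ⟶ N' := ObjectProperty.homMk p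
  let π' : N' ⟶ Q' := ObjectProperty.homMk π
  have hM : IsColimit (CokernelCofork.ofπ π hπ) :=
    ModuleCat.isColimitCokernelCofork p π
      (LinearMap.exact_iff.2 (Submodule.ker_mkQ _)) (Submodule.mkQ_surjective _)
  have hw : p' ≫ π' = 0 := ObjectProperty.hom_ext _ hπ
  have h' : IsColimit (CokernelCofork.ofπ π' hw) := by
    refine CokernelCofork.IsColimit.ofπ _ _
      (fun {W} k hk => ObjectProperty.homMk (hM.desc (CokernelCofork.ofπ k.hom
        (show p ≫ k.hom = 0 from congrArg InducedCategory.Hom.hom hk)))) (fun {W} k hk => ?_) fun {W} k hk m hm => ?_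
    · exact ObjectProperty.hom_ext _ (hM.fac (CokernelCofork.ofπ k.hom _) WalkingParallelPair.one)
    · refine ObjectProperty.hom_ext _ (Cofork.IsColimit.hom_ext hM ?_)
      exact (congrArg InducedCategory.Hom.hom hm).trans
        (hM.fac (CokernelCofork.ofπ k.hom _) WalkingParallelPair.one).symm
  haveI : ((fpProp A).ι ⋙ F').Additive := inferInstance
  have hF := CokernelCofork.mapIsColimit _ h' ((fpProp A).ι ⋙ F')
  obtain ⟨l, hl⟩ := CokernelCofork.IsColimit.desc' hF g hg
  exact ⟨l, hl, fun l' hl' => Cofork.IsColimit.hom_ext hF (hl'.trans hl.symm)⟩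

variable [PreservesFilteredColimitsOfSize.{u, u} F']

/-- Stages for the cokernel of a map into a direct limit: finitely generated relations at a stage. -/
structure RelStage {ι : Type u} (G : ι → Type u) [∀ i, AddCommGroup (G i)] [∀ i, Module A (G i)] {N : Type u}
    [AddCommGroup N] [Module A N] (g : ∀ i, G i →ₗ[A] N) (R : Submodule A N) where
  i : ι
  K : Submodule A (G i)
  fg : K.FG
  le : K.map (g i) ≤ R

theorem preservesColimit_parallelPair {M N : ModuleCat.{u} A} (f : M ⟶ N) :
    PreservesColimit (parallelPair f 0) F' := by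
  classical
  let Q := ModuleCat.of A (N ⧸ LinearMap.range f.hom)
  let π : N ⟶ Q := ModuleCat.ofHom (LinearMap.range f.hom).mkQ
  have hπ : f ≫ π = 0 := by
    ext x
    exact (Submodule.Quotient.mk_eq_zero _).2 ⟨x, rfl⟩
  have hM : IsColimit (CokernelCofork.ofπ π hπ) :=
    ModuleCat.isColimitCokernelCofork f π (LinearMap.exact_iff.2 (Submodule.ker_mkQ _)) (Submodule.mkQ_surjective _)
  obtain ⟨ι, _, _, _, _, G, _, _, fN, _, hGfp, ⟨eN⟩⟩ := Groth.Agent.S6328.result A N
  haveI : IsDirectedOrder ι := ⟨fun a b => directed_of (· ≤ ·) a b⟩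
  let of : ∀ i, G i →ₗ[A] N := fun i => eN.toLinearMap.comp (Module.DirectLimit.of A ι G fN i)
  have hof : ∀ i j h x, of j (fN i j h x) = of i x := fun i j h x => congrArg eN Module.DirectLimit.of_f
  -- pairs of a stage and a finitely generated submodule of relations
  let Idx : Type u := RelStage (A := A) G of (LinearMap.range f.hom)
  letI : Preorder Idx :=
    { le := fun p q => ∃ h : p.i ≤ q.i, p.K.map (fN _ _ h) ≤ q.K
      le_refl := fun p => ⟨le_rfl, by
        rintro _ ⟨x, hx, rfl⟩
        rwa [DirectedSystem.map_self (f := fun i j h => fN i j h)]⟩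
      le_trans := fun p q r ⟨h, h'⟩ ⟨k, k'⟩ => ⟨h.trans k, by
        rintro _ ⟨x, hx, rfl⟩
        rw [← DirectedSystem.map_map (f := fun i j h => fN i j h) h k]
        exact k' ⟨_, h' ⟨x, hx, rfl⟩, rfl⟩⟩ }
  haveI : Nonempty Idx := ⟨⟨Classical.arbitrary ι, ⊥, Submodule.fg_bot, by simp⟩⟩
  haveI : IsDirectedOrder Idx := ⟨fun p q => by
    obtain ⟨k, hk, hk'⟩ := exists_ge_ge p.i q.i
    refine ⟨⟨k, p.K.map (fN _ _ hk) ⊔ q.K.map (fN _ _ hk'),
      (p.fg.map _).sup (q.fg.map _), ?_⟩, ⟨hk, le_sup_left⟩, ⟨hk', le_sup_right⟩⟩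
    rw [Submodule.map_sup, sup_le_iff]
    constructor
    · rintro _ ⟨_, ⟨x, hx, rfl⟩, rfl⟩; rw [hof]; exact p.le ⟨x, hx, rfl⟩
    · rintro _ ⟨_, ⟨x, hx, rfl⟩, rfl⟩; rw [hof]; exact q.le ⟨x, hx, rfl⟩⟩
  haveI : IsDirected Idx (· ≤ ·) := ⟨fun a b => exists_ge_ge a b⟩
  let S : Idx → Type u := fun p => G p.i ⧸ p.K
  let T : ∀ p q : Idx, p ≤ q → S p →ₗ[A] S q := fun p q h =>
    Submodule.mapQ _ _ (fN _ _ h.1) (Submodule.map_le_iff_le_comap.1 h.2)
  haveI : DirectedSystem S fun p q h => T p q h :=
    { map_self := fun p x => by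
        obtain ⟨x, rfl⟩ := Submodule.Quotient.mk_surjective _ x
        exact congrArg Submodule.Quotient.mk (DirectedSystem.map_self (f := fun i j h => fN i j h) x)
      map_map := fun p q r h k x => by
        obtain ⟨x, rfl⟩ := Submodule.Quotient.mk_surjective _ x
        exact congrArg Submodule.Quotient.mk (DirectedSystem.map_map (f := fun i j h => fN i j h) _ _ x) }
  let toQ : ∀ p : Idx, S p →ₗ[A] Q := fun p => Submodule.mapQ _ _ (of p.i) (Submodule.map_le_iff_le_comap.1 p.le)
  let L : Module.DirectLimit S T →ₗ[A] Q := Module.DirectLimit.lift A Idx S T toQ fun p q h x => by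
    obtain ⟨x, rfl⟩ := Submodule.Quotient.mk_surjective _ x
    exact congrArg Submodule.Quotient.mk (hof _ _ _ x)
  have hLsurj : Function.Surjective L := fun z => by
    obtain ⟨n, rfl⟩ := Submodule.Quotient.mk_surjective _ z
    obtain ⟨i, x, hx⟩ := Module.DirectLimit.exists_of (eN.symm n)
    refine ⟨Module.DirectLimit.of A Idx S T ⟨i, ⊥, Submodule.fg_bot, by simp⟩ (Submodule.Quotient.mk x), ?_⟩
    rw [Module.DirectLimit.lift_of]
    refine congrArg Submodule.Quotient.mk ?_
    show eN (Module.DirectLimit.of A ι G fN i x) = n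
    rw [hx, eN.apply_symm_apply]
  have hLinj : Function.Injective L := (injective_iff_map_eq_zero L).2 fun z hz => by
    obtain ⟨p, s, rfl⟩ := Module.DirectLimit.exists_of z
    obtain ⟨x, rfl⟩ := Submodule.Quotient.mk_surjective _ s
    rw [Module.DirectLimit.lift_of] at hz
    have hx : of p.i x ∈ LinearMap.range f.hom := (Submodule.Quotient.mk_eq_zero _).1 hz
    let q : Idx := ⟨p.i, p.K ⊔ Submodule.span A {x}, p.fg.sup (Submodule.fg_span_singleton x), by
      rw [Submodule.map_sup, sup_le_iff]
      exact ⟨p.le, by rw [Submodule.map_span, Set.image_singleton, Submodule.span_singleton_le_iff_mem]; exact hx⟩⟩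
    have hpq : p ≤ q := ⟨le_rfl, by
      rintro _ ⟨y, hy, rfl⟩
      rw [DirectedSystem.map_self (f := fun i j h => fN i j h)]
      exact le_sup_left (b := Submodule.span A {x}) hy⟩
    have e0 : T p q hpq (Submodule.Quotient.mk x) = 0 := by
      refine (Submodule.Quotient.mk_eq_zero _).2 ?_
      rw [DirectedSystem.map_self (f := fun i j h => fN i j h)]
      exact le_sup_right (a := p.K) (Submodule.mem_span_singleton_self x)
    have h1 : Module.DirectLimit.of A Idx S T p (Submodule.Quotient.mk x) =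
        Module.DirectLimit.of A Idx S T q (T p q hpq (Submodule.Quotient.mk x)) := (Module.DirectLimit.of_f (hij := hpq)).symm
    rw [h1, e0, map_zero]
  let eQ : ModuleCat.of A (Module.DirectLimit S T) ≅ Q := (LinearEquiv.ofBijective L ⟨hLinj, hLsurj⟩).toModuleIso
  have hcQ := isColimitOfPreserves F' (ModuleCat.directLimitIsColimit S T)
  have hstage : ∀ p : Idx, ∃ (P : ModuleCat.{u} A) (_ : Module.FinitePresentation A P) (l : P ⟶ ModuleCat.of A (G p.i)) (m : P ⟶ M),
      LinearMap.range l.hom = p.K ∧ m ≫ f = l ≫ ModuleCat.ofHom (of p.i) := by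
    intro p
    obtain ⟨s, hs⟩ := p.fg
    have hmem : ∀ x : ↥s, ∃ y, f.hom y = of p.i x := fun x =>
      p.le ⟨x, hs ▸ Submodule.subset_span x.2, rfl⟩
    choose y hy using hmem
    refine ⟨ModuleCat.of A (↥s → A), inferInstanceAs (Module.FinitePresentation A (↥s → A)),
      ModuleCat.ofHom (Fintype.linearCombination A fun x : ↥s => (x : G p.i)),
      ModuleCat.ofHom (Fintype.linearCombination A y), ?_, ?_⟩
    · rw [ModuleCat.hom_ofHom, Fintype.range_linearCombination]
      simpa using hs
    · ext a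
      simp [Fintype.linearCombination_apply, map_sum, hy]
  -- a map killing the image of `f` descends stagewise
  have hdesc : ∀ {Z : B} (t : F'.obj N ⟶ Z), F'.map f ≫ t = 0 → ∀ p : Idx,
      ∃! l : F'.obj (ModuleCat.of A (S p)) ⟶ Z,
        F'.map (ModuleCat.ofHom p.K.mkQ) ≫ l = F'.map (ModuleCat.ofHom (of p.i)) ≫ t := by
    intro Z t ht p
    obtain ⟨P, _, l, m, hl, hm⟩ := hstage p
    haveI := hGfp p.i
    have h0 : F'.map l ≫ F'.map (ModuleCat.ofHom (of p.i)) ≫ t = 0 := by
      rw [← F'.map_comp_assoc, ← hm, F'.map_comp_assoc, ht, comp_zero]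
    have key : ∀ (K : Submodule A (G p.i)), LinearMap.range l.hom = K →
        ∃! l' : F'.obj (ModuleCat.of A (G p.i ⧸ K)) ⟶ Z,
          F'.map (ModuleCat.ofHom K.mkQ) ≫ l' = F'.map (ModuleCat.ofHom (of p.i)) ≫ t := by
      rintro K rfl
      exact existsUnique_desc F' l _ h0
    exact key _ hl
  have hsq : ∀ p : Idx, F'.map (ModuleCat.ofHom p.K.mkQ) ≫ F'.map (ModuleCat.ofHom (Module.DirectLimit.of A Idx S T p)) ≫ F'.map eQ.hom =
      F'.map (ModuleCat.ofHom (of p.i)) ≫ F'.map π := fun p => by
    simp only [← F'.map_comp]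
    congr 1
    ext x
    show L (Module.DirectLimit.of A Idx S T p _) = _
    rw [Module.DirectLimit.lift_of]
    rfl
  refine preservesColimit_of_preserves_colimit_cocone hM ((CokernelCofork.isColimitMapCoconeEquiv _ F').symm ?_)
  have hex : ∀ {Z : B} (t : F'.obj N ⟶ Z), F'.map f ≫ t = 0 → ∃ l : F'.obj Q ⟶ Z, F'.map π ≫ l = t := by
    intro Z t ht
    choose l hl hlu using hdesc t ht
    let c : Cocone (ModuleCat.directLimitDiagram S T ⋙ F') :=
      { pt := Z
        ι :=
          { app := l
            naturality := fun p q h => by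
              refine (hlu p _ ?_).trans (Category.comp_id _).symm
              show F'.map (ModuleCat.ofHom p.K.mkQ) ≫ F'.map (ModuleCat.ofHom (T p q h.le)) ≫ l q = _
              rw [← F'.map_comp_assoc, show ModuleCat.ofHom p.K.mkQ ≫ ModuleCat.ofHom (T p q h.le) =
                ModuleCat.ofHom (fN _ _ h.le.1) ≫ ModuleCat.ofHom q.K.mkQ from rfl, F'.map_comp_assoc, hl, ← F'.map_comp_assoc]
              congr 2
              ext x
              exact hof _ _ _ x } }
    refine ⟨F'.map eQ.inv ≫ hcQ.desc c, ?_⟩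
    -- test on the stages of `N`
    let eN' : ModuleCat.of A (Module.DirectLimit G fN) ≅ N := eN.toModuleIso
    rw [← cancel_epi (F'.map eN'.hom)]
    refine (isColimitOfPreserves F' (ModuleCat.directLimitIsColimit G fN)).hom_ext fun i => ?_
    simp only [Functor.mapCocone_ι_app]
    let p : Idx := ⟨i, ⊥, Submodule.fg_bot, by simp⟩
    have h1 := hsq p
    show F'.map (ModuleCat.ofHom (Module.DirectLimit.of A ι G fN i)) ≫ F'.map eN'.hom ≫ F'.map π ≫ _ = _ ≫ F'.map eN'.hom ≫ t
    have e1 : F'.map (ModuleCat.ofHom (Module.DirectLimit.of A ι G fN i)) ≫ F'.map eN'.hom =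
        F'.map (ModuleCat.ofHom (of i)) := by rw [← F'.map_comp]; rfl
    refine ((reassoc_of% e1) _).trans (Eq.trans ?_ ((reassoc_of% e1) t).symm)
    refine ((reassoc_of% h1) _).symm.trans ?_
    rw [← F'.map_comp_assoc eQ.hom, Iso.hom_inv_id, F'.map_id, Category.id_comp]
    have h2 : F'.map (ModuleCat.ofHom (Module.DirectLimit.of A Idx S T p)) ≫ hcQ.desc c = l p := hcQ.fac c p
    rw [h2]
    exact hl p
  have hw : F'.map f ≫ F'.map π = 0 := by rw [← F'.map_comp, hπ, F'.map_zero]
  haveI : Epi (F'.map π) := ⟨fun {Z} u v huv => by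
    have h0 : F'.map f ≫ F'.map π ≫ u = 0 := by rw [reassoc_of% hw, zero_comp]
    rw [← cancel_epi (F'.map eQ.hom)]
    refine hcQ.hom_ext fun p => ?_
    simp only [Functor.mapCocone_ι_app]
    refine (hdesc _ h0 p).unique ?_ ?_
    · show F'.map _ ≫ F'.map (ModuleCat.ofHom (Module.DirectLimit.of A Idx S T p)) ≫ F'.map eQ.hom ≫ u = _
      rw [reassoc_of% (hsq p)]
    · show F'.map _ ≫ F'.map (ModuleCat.ofHom (Module.DirectLimit.of A Idx S T p)) ≫ F'.map eQ.hom ≫ v = _
      rw [reassoc_of% (hsq p), huv]⟩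
  exact CokernelCofork.IsColimit.ofπ' (F'.map π) hw fun {Z} t ht => ⟨_, (hex t ht).choose_spec⟩

/-- The extension of a right exact functor is right exact. -/
theorem preservesFiniteColimits [HasFiniteBiproducts B] : PreservesFiniteColimits F' := by
  haveI : ∀ {X Y} (f : X ⟶ Y), PreservesColimit (parallelPair f 0) F' := fun f => preservesColimit_parallelPair F' f
  exact F'.preservesFiniteColimits_of_preservesCokernels

end FunMorLib
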